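import Cfsg.Agent.B3.ModA
import Mathlib.LinearAlgebra.BilinearForm.Properties
import Mathlib.LinearAlgebra.Matrix.BilinearForm

set_option autoImplicit false

namespace Cfsg.Agent.B3

open Subgroup H49 T3.Fr2 F3

attribute [local irreducible] gm

namespace SetLX

open Matrix

theorem act {g : GG} {A : M8} (h : g.val = A) (v : V) : g • v = A *ᵥ v := h ▸ rfl

theorem aI0 (v : V) : gI 0 • v = ![-v 4, -v 5, -v 6, -v 7, v 0, v 1, v 2, v 3] := by
  have : (gI 0).val = !![0,0,0,0,-1,0,0,0; 0,0,0,0,0,-1,0,0; 0,0,0,0,0,0,-1,0; 0,0,0,0,0,0,0,-1;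
      1,0,0,0,0,0,0,0; 0,1,0,0,0,0,0,0; 0,0,1,0,0,0,0,0; 0,0,0,1,0,0,0,0] := by
    rw [val_eq, pk_gI]; decide +kernel
  rw [act this]
  ext k
  fin_cases k <;> simp [mulVec, dotProduct, Fin.sum_univ_eight]

theorem aI1 (v : V) : gI 1 • v = ![-v 2, -v 3, v 0, v 1, -v 6, -v 7, v 4, v 5] := by
  have : (gI 1).val = !![0,0,-1,0,0,0,0,0; 0,0,0,-1,0,0,0,0; 1,0,0,0,0,0,0,0; 0,1,0,0,0,0,0,0;
      0,0,0,0,0,0,-1,0; 0,0,0,0,0,0,0,-1; 0,0,0,0,1,0,0,0; 0,0,0,0,0,1,0,0] := by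
    rw [val_eq, pk_gI]; decide +kernel
  rw [act this]
  ext k
  fin_cases k <;> simp [mulVec, dotProduct, Fin.sum_univ_eight]

theorem aI2 (v : V) : gI 2 • v = ![-v 1, v 0, -v 3, v 2, -v 5, v 4, -v 7, v 6] := by
  have : (gI 2).val = !![0,-1,0,0,0,0,0,0; 1,0,0,0,0,0,0,0; 0,0,0,-1,0,0,0,0; 0,0,1,0,0,0,0,0;
      0,0,0,0,0,-1,0,0; 0,0,0,0,1,0,0,0; 0,0,0,0,0,0,0,-1; 0,0,0,0,0,0,1,0] := by
    rw [val_eq, pk_gI]; decide +kernel
  rw [act this]
  ext k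
  fin_cases k <;> simp [mulVec, dotProduct, Fin.sum_univ_eight]

theorem aJ0 (v : V) : gJ 0 • v =
    ![v 0 + v 4, v 1 + v 5, v 2 + v 6, v 3 + v 7, v 0 - v 4, v 1 - v 5, v 2 - v 6, v 3 - v 7] := by
  have : (gJ 0).val = !![1,0,0,0,1,0,0,0; 0,1,0,0,0,1,0,0; 0,0,1,0,0,0,1,0; 0,0,0,1,0,0,0,1;
      1,0,0,0,-1,0,0,0; 0,1,0,0,0,-1,0,0; 0,0,1,0,0,0,-1,0; 0,0,0,1,0,0,0,-1] := by
    rw [val_eq, pk_gJ]; decide +kernel
  rw [act this]
  ext k
  fin_cases k <;> simp [mulVec, dotProduct, Fin.sum_univ_eight, sub_eq_add_neg]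

theorem aJ1 (v : V) : gJ 1 • v =
    ![v 0 + v 2, v 1 + v 3, v 0 - v 2, v 1 - v 3, v 4 + v 6, v 5 + v 7, v 4 - v 6, v 5 - v 7] := by
  have : (gJ 1).val = !![1,0,1,0,0,0,0,0; 0,1,0,1,0,0,0,0; 1,0,-1,0,0,0,0,0; 0,1,0,-1,0,0,0,0;
      0,0,0,0,1,0,1,0; 0,0,0,0,0,1,0,1; 0,0,0,0,1,0,-1,0; 0,0,0,0,0,1,0,-1] := by
    rw [val_eq, pk_gJ]; decide +kernel
  rw [act this]
  ext k
  fin_cases k <;> simp [mulVec, dotProduct, Fin.sum_univ_eight, sub_eq_add_neg]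

theorem aJ2 (v : V) : gJ 2 • v =
    ![v 0 + v 1, v 0 - v 1, v 2 + v 3, v 2 - v 3, v 4 + v 5, v 4 - v 5, v 6 + v 7, v 6 - v 7] := by
  have : (gJ 2).val = !![1,1,0,0,0,0,0,0; 1,-1,0,0,0,0,0,0; 0,0,1,1,0,0,0,0; 0,0,1,-1,0,0,0,0;
      0,0,0,0,1,1,0,0; 0,0,0,0,1,-1,0,0; 0,0,0,0,0,0,1,1; 0,0,0,0,0,0,1,-1] := by
    rw [val_eq, pk_gJ]; decide +kernel
  rw [act this]
  ext k
  fin_cases k <;> simp [mulVec, dotProduct, Fin.sum_univ_eight, sub_eq_add_neg]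

theorem cII (a b : Fin 3) : gI a * gI b = gI b * gI a :=
  pk_inj (by simp only [pk_mul, pk_gI]; revert a b; decide +kernel)
theorem cJJ (a b : Fin 3) : gJ a * gJ b = gJ b * gJ a :=
  pk_inj (by simp only [pk_mul, pk_gJ]; revert a b; decide +kernel)
theorem cJI {a b : Fin 3} (h : a ≠ b) : gJ a * gI b = gI b * gJ a :=
  pk_inj (by simp only [pk_mul, pk_gI, pk_gJ]; revert a b; decide +kernel)
theorem cJI' (a : Fin 3) : gJ a * gI a = gI a * (gJ a * -1) :=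
  pk_inj (by simp only [pk_mul, pk_gI, pk_gJ, pk_neg_one]; revert a; decide +kernel)

variable {U : Type*} [AddCommGroup U] [Module F U]

/-- The relations of `R0` for operators. -/
structure Rel (i j : Fin 3 → U →ₗ[F] U) (m : U →ₗ[F] U) : Prop where
  ii : ∀ a b u, i a (i b u) = i b (i a u)
  jj : ∀ a b u, j a (j b u) = j b (j a u)
  ji : ∀ a b, a ≠ b → ∀ u, j a (i b u) = i b (j a u)
  ji' : ∀ a u, j a (i a u) = i a (j a (m u))
  i2 : ∀ a u, i a (i a u) = m u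
  j2 : ∀ a u, j a (j a u) = m u

variable {i j : Fin 3 → U →ₗ[F] U} {m : U →ₗ[F] U}

theorem Rel.mi (h : Rel i j m) (a : Fin 3) (u : U) : m (i a u) = i a (m u) := by rw [← h.i2 a, h.i2 a u]
theorem Rel.mj (h : Rel i j m) (a : Fin 3) (u : U) : m (j a u) = j a (m u) := by rw [← h.j2 a, h.j2 a u]

theorem three (u : U) : u + u + u = 0 := by
  rw [← one_smul F u, ← add_smul, ← add_smul, show (1 + 1 + 1 : F) = 0 by decide, zero_smul]

theorem Rel.step (h : Rel i j m) (a : Fin 3) (s : Set (Fin 3)) (ha : a ∉ s)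
    (hu : ∃ u, u ≠ 0 ∧ m u = -u ∧ ∀ b ∈ s, j b u = u + i b u) :
    ∃ u, u ≠ 0 ∧ m u = -u ∧ ∀ b ∈ insert a s, j b u = u + i b u := by
  obtain ⟨u, h0, h1, h2⟩ := hu
  by_cases hn : i a u + j a u + i a (j a u) = 0
  · refine ⟨u, h0, h1, ?_⟩
    rintro b (rfl | hb)
    · have := congrArg (i b) hn
      simp only [map_add, h.i2, h.mj, h1, map_neg, map_zero] at this
      linear_combination (norm := module) this - hn + three (j b u)
    · exact h2 b hb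
  · refine ⟨_, hn, by simp only [map_add, h.mi, h.mj, h1, map_neg, neg_add], ?_⟩
    rintro b (rfl | hb)
    · simp only [map_add, h.ji', h.i2, h.j2, h.mj, h1, map_neg, neg_neg]
      linear_combination (norm := module) -three (i b (j b u))
    · have hab : b ≠ a := fun e => ha (e ▸ hb)
      simp only [map_add, h.ji b a hab, h.jj b a, h2 b hb, h.ji a b hab.symm, h.ii a b]
      module

/-- the intertwiner -/
noncomputable def ph (i : Fin 3 → U →ₗ[F] U) (e : U) : V →ₗ[F] U :=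
  Fintype.linearCombination F ![e, i 2 e, i 1 e, i 1 (i 2 e), i 0 e, i 0 (i 2 e), i 0 (i 1 e), i 0 (i 1 (i 2 e))]

theorem ph_apply (e : U) (v : V) : ph i e v = v 0 • e + v 1 • i 2 e + v 2 • i 1 e + v 3 • i 1 (i 2 e) + v 4 • i 0 e +
    v 5 • i 0 (i 2 e) + v 6 • i 0 (i 1 e) + v 7 • i 0 (i 1 (i 2 e)) := by
  simp [ph, Fintype.linearCombination_apply, Fin.sum_univ_eight]

theorem Rel.phI (h : Rel i j m) {e : U} (he : m e = -e) (a : Fin 3) (v : V) : ph i e (gI a • v) = i a (ph i e v) := by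
  fin_cases a
  · simp [ph_apply, aI0, h.i2, h.mi, he]
    module
  · simp [ph_apply, aI1, h.i2, h.mi, he, h.ii 1 0]
    module
  · simp [ph_apply, aI2, h.i2, h.mi, he, h.ii 2 0, h.ii 2 1]
    module

theorem Rel.phJ (h : Rel i j m) {e : U} (he : m e = -e) (hj : ∀ b, j b e = e + i b e) (a : Fin 3) (v : V) :
    ph i e (gJ a • v) = j a (ph i e v) := by
  fin_cases a
  · simp [ph_apply, aJ0, h.i2, h.mi, he, h.ji', h.ji 0 1, h.ji 0 2, hj, h.ii 1 0, h.ii 2 0]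
    module
  · simp [ph_apply, aJ1, h.i2, h.mi, he, h.ji', h.ji 1 0, h.ji 1 2, hj, h.ii 2 1]
    module
  · simp [ph_apply, aJ2, h.i2, h.mi, he, h.ji', h.ji 2 0, h.ji 2 1, hj]
    module

theorem Rel.inj (h : Rel i j m) {e : U} (h0 : e ≠ 0) (he : m e = -e) (hj : ∀ b, j b e = e + i b e) :
    Function.Injective (ph i e) := by
  have hI : ∀ a v, ph i e v = 0 → ph i e (gI a • v) = 0 := fun a v hv => by rw [h.phI he, hv, map_zero]
  have hN : ∀ a v, ph i e v = 0 → ph i e (gI a • v + gJ a • v + gI a • gJ a • v) = 0 := fun a v hv => by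
    simp only [map_add, h.phI he, h.phJ he hj, hv, map_zero, add_zero]
  have h3 : ∀ x : F, x + x + x = 0 := by decide
  have n0 : ∀ v : V, gI 0 • v + gJ 0 • v + gI 0 • gJ 0 • v = ![v 4, v 5, v 6, v 7, 0, 0, 0, 0] := fun v => by
    ext k
    fin_cases k <;> simp [aI0, aJ0] <;> linear_combination h3 _
  have n1 : ∀ v : V, gI 1 • v + gJ 1 • v + gI 1 • gJ 1 • v = ![v 2, v 3, 0, 0, v 6, v 7, 0, 0] := fun v => by
    ext k
    fin_cases k <;> simp [aI1, aJ1] <;> linear_combination h3 _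
  have n2 : ∀ v : V, gI 2 • v + gJ 2 • v + gI 2 • gJ 2 • v = ![v 1, 0, v 3, 0, v 5, 0, v 7, 0] := fun v => by
    ext k
    fin_cases k <;> simp [aI2, aJ2] <;> linear_combination h3 _
  have h7 : ∀ v, ph i e v = 0 → v 7 = 0 := fun v hv => by
    have h2 := hN 2 v hv
    rw [n2] at h2
    have h1 := hN 1 _ h2
    rw [n1] at h1
    have h0' := hN 0 _ h1
    rw [n0] at h0'
    simpa [ph_apply, h0] using h0'
  have h6 : ∀ v, ph i e v = 0 → v 6 = 0 := fun v hv => by simpa [aI2] using h7 _ (hI 2 v hv)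
  have h5 : ∀ v, ph i e v = 0 → v 5 = 0 := fun v hv => by simpa [aI1] using h7 _ (hI 1 v hv)
  have h4 : ∀ v, ph i e v = 0 → v 4 = 0 := fun v hv => by simpa [aI1] using h6 _ (hI 1 v hv)
  refine (injective_iff_map_eq_zero _).2 fun v hv => funext fun k => ?_
  fin_cases k
  · simpa [aI0] using h4 _ (hI 0 v hv)
  · simpa [aI0] using h5 _ (hI 0 v hv)
  · simpa [aI0] using h6 _ (hI 0 v hv)
  · simpa [aI0] using h7 _ (hI 0 v hv)
  exacts [h4 v hv, h5 v hv, h6 v hv, h7 v hv]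

theorem rel' {Γ : Type*} [Group Γ] {R : Subgroup Γ} (ι : R →* (U ≃ₗ[F] U)) {x y : Fin 3 → Γ} {n : Γ}
    (hx : ∀ a, x a ∈ R) (hy : ∀ a, y a ∈ R) (hn : n ∈ R) (h1 : ∀ a b, x a * x b = x b * x a)
    (h2 : ∀ a b, y a * y b = y b * y a) (h3 : ∀ {a b}, a ≠ b → y a * x b = x b * y a)
    (h4 : ∀ a, y a * x a = x a * (y a * n)) (h5 : ∀ a, x a * x a = n) (h6 : ∀ a, y a * y a = n) :
    Rel (fun a => (ι ⟨x a, hx a⟩).toLinearMap) (fun a => (ι ⟨y a, hy a⟩).toLinearMap) (ι ⟨n, hn⟩).toLinearMap := by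
  have k : ∀ (a b : R) (u : U), ι a (ι b u) = ι (a * b) u := fun a b u => by rw [map_mul]; rfl
  have k' : ∀ (a b : R) (u : U), a.1 = b.1 → ι a u = ι b u := fun a b u e => by rw [Subtype.ext e]
  refine ⟨fun a b u => ?_, fun a b u => ?_, fun a b h u => ?_, fun a u => ?_, fun a u => ?_, fun a u => ?_⟩ <;>
    simp only [LinearEquiv.coe_coe, k] <;> refine k' _ _ _ ?_
  exacts [h1 a b, h2 a b, h3 h, h4 a, h5 a, h6 a]

theorem rel (ι : R0 →* (U ≃ₗ[F] U)) : Rel (fun a => (ι ⟨gI a, gI_mem a⟩).toLinearMap)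
    (fun a => (ι ⟨gJ a, gJ_mem a⟩).toLinearMap) (ι ⟨-1, neg_one_mem⟩).toLinearMap :=
  rel' ι gI_mem gJ_mem neg_one_mem cII cJJ cJI cJI' gI_sq gJ_sq

theorem om_inv : ∃ C : M8, Om * C = 1 :=
  ⟨dec omiN, pkM_inj (by rw [pkM_mul, pkM_Om, pkM_dec, pkM_one]; decide +kernel)⟩

theorem form (B : LinearMap.BilinForm F V) (h : ∀ g ∈ R0, ∀ v w, B (g • v) (g • w) = B v w) :
    ∃ c : F, ∀ v w, B v w = c * om v w := by
  obtain ⟨A, hA⟩ : ∃ A : M8, ∀ v w, B v w = om v (A *ᵥ w) := by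
    obtain ⟨C, h1⟩ := om_inv
    refine ⟨C * LinearMap.BilinForm.toMatrix' B, fun v w => ?_⟩
    rw [om, mulVec_mulVec, ← Matrix.mul_assoc, h1, Matrix.one_mul, ← toBilin'_apply', toBilin'_toMatrix']
  have key : ∀ g ∈ R0, A * g.val = g.val * A := fun g hg => by
    refine Matrix.toLin'.injective (LinearMap.ext fun w => ?_)
    rw [toLin'_apply, toLin'_apply, ← mulVec_mulVec, ← mulVec_mulVec, ← sub_eq_zero]
    refine om_nondeg fun v => ?_
    rw [om_swap, om_sub_right, ← hA, ← smul_inv_smul g v, ← smul_def, ← smul_def, h g hg, om_smul (R0_le_HH hg), hA,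
      sub_self, neg_zero]
  obtain ⟨c, rfl⟩ := cent_mat fun a => ⟨key _ (gI_mem a), key _ (gJ_mem a)⟩
  exact ⟨c, fun v w => by rw [hA, smul_mulVec, one_mulVec, om_smul_right]⟩

end SetLX

open SetLX in
theorem rep_unique {U : Type*} [AddCommGroup U] [Module F U] (hU : Nat.card U = 6561)
    (B : LinearMap.BilinForm F U) (hB : ∀ u, (∀ w, B u w = 0) → u = 0) (ι : R0 →* (U ≃ₗ[F] U))
    (hι : Function.Injective ι) (hs : ∀ a u w, B (ι a u) (ι a w) = B u w) :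
    ∃ (φ : V ≃ₗ[F] U) (ε : F), (ε = 1 ∨ ε = -1) ∧ (∀ (a : R0) (v : V), φ ((a : GG) • v) = ι a (φ v)) ∧
      ∀ v w, B (φ v) (φ w) = ε * om v w := by
  have h := rel ι
  have hm : ∃ u, u ≠ 0 ∧ (ι ⟨-1, neg_one_mem⟩).toLinearMap u = -u := by
    have h1 : ι ⟨-1, neg_one_mem⟩ ≠ 1 := fun e => absurd
      (congrArg (fun x : R0 => pk x.1) (hι (e.trans (map_one ι).symm))) (by
        simp only [pk_neg_one, coe_one, pk_one]; decide +kernel)
    obtain ⟨u, hu⟩ : ∃ u, ι ⟨-1, neg_one_mem⟩ u ≠ u := by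
      by_contra hh
      exact h1 (LinearEquiv.ext fun u => not_not.1 fun e => hh ⟨u, e⟩)
    refine ⟨_, sub_ne_zero.2 hu, ?_⟩
    have h2 : ι ⟨-1, neg_one_mem⟩ (ι ⟨-1, neg_one_mem⟩ u) = u := by
      rw [← LinearEquiv.mul_apply, ← map_mul, show (⟨-1, neg_one_mem⟩ * ⟨-1, neg_one_mem⟩ : R0) = 1 from
        Subtype.ext (by simp), map_one]
      rfl
    rw [LinearEquiv.coe_coe, map_sub, h2, neg_sub]
  obtain ⟨e, h0, he, hj⟩ := h.step 2 _ (by simp) (h.step 1 _ (by simp) (h.step 0 ∅ (by simp) (by simpa using hm)))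
  replace hj := fun b : Fin 3 => hj b (by fin_cases b <;> simp)
  have : Finite U := Nat.finite_of_card_ne_zero (by rw [hU]; norm_num)
  let φ : V ≃ₗ[F] U := LinearEquiv.ofBijective _ ((Nat.bijective_iff_injective_and_card _).2
    ⟨h.inj h0 he hj, by rw [hU]; simp [Nat.card_pi]⟩)
  have hφ : ∀ g (hg : g ∈ R0) (v : V), φ (g • v) = ι ⟨g, hg⟩ (φ v) := fun g hg => by
    induction hg using closure_induction with
    | mem x hx =>
      rcases hx with ⟨a, rfl⟩ | ⟨a, rfl⟩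
      exacts [h.phI he a, h.phJ he hj a]
    | one => exact fun v => by rw [one_smul, show (⟨1, _⟩ : R0) = 1 from rfl, map_one]; rfl
    | mul x y hx hy a b =>
      exact fun v => by rw [mul_smul, a, b, ← LinearEquiv.mul_apply, ← map_mul]; rfl
    | inv x hx a =>
      intro v
      rw [show (⟨x⁻¹, _⟩ : R0) = (⟨x, hx⟩ : R0)⁻¹ from rfl, map_inv]
      refine (ι ⟨x, hx⟩).injective ?_
      rw [← a, smul_inv_smul, ← LinearEquiv.mul_apply, mul_inv_cancel]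
      rfl
  obtain ⟨c, hc⟩ := form (B.comp φ.toLinearMap φ.toLinearMap) fun g hg v w => by
    simp only [LinearMap.BilinForm.comp_apply, LinearEquiv.coe_coe, hφ g hg, hs]
  refine ⟨φ, c, ?_, fun a => hφ a a.2, hc⟩
  have hc0 : c ≠ 0 := by
    rintro rfl
    refine h0 (hB e fun w => ?_)
    simpa using hc (φ.symm e) (φ.symm w)
  revert c
  suffices ∀ c : F, c ≠ 0 → c = 1 ∨ c = -1 from fun c _ => this c
  decide

end Cfsg.Agent.B3
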